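/- No `McL` or `Ly` 2-components (S1739): the model `T7 = UT₃(4) : ⟨field automorphism⟩` of a Sylow 2-subgroup of `McL`. -/
import Cfsg.Agent.SYL.L8Mod

set_option autoImplicit false

namespace CL.NM

open Subgroup CL.Syl CL.Syl.L8

/-- the field with four elements -/
abbrev K4 := Syl.F4

/-- a primitive element -/
abbrev om : K4 := Syl.F4.ω

/-- the element `E'(b) E(a) Z(c) φᵗ` -/
structure T7 where
  (a b c : K4)
  (t : Bool)
  deriving DecidableEq

namespace T7

/-- the Frobenius map or the identity -/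
def fr (t : Bool) (x : K4) : K4 := cond t x.bar x

instance : Mul T7 :=
  ⟨fun x y => ⟨x.a + fr x.t y.a, x.b + fr x.t y.b, x.c + fr x.t y.c + x.a * fr x.t y.b, x.t ^^ y.t⟩⟩
instance : One T7 := ⟨⟨0, 0, 0, false⟩⟩
instance : Inv T7 := ⟨fun x => ⟨fr x.t x.a, fr x.t x.b, fr x.t (x.c + x.a * x.b), x.t⟩⟩

instance decAll (P : T7 → Prop) [DecidablePred P] : Decidable (∀ x, P x) :=
  decidable_of_iff (∀ a b c t, P ⟨a, b, c, t⟩) ⟨fun h x => h x.a x.b x.c x.t, fun h _ _ _ _ => h _⟩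

instance decEx (P : T7 → Prop) [DecidablePred P] : Decidable (∃ x, P x) :=
  decidable_of_iff (∃ a b c t, P ⟨a, b, c, t⟩)
    ⟨fun ⟨_, _, _, _, h⟩ => ⟨_, h⟩, fun ⟨x, h⟩ => ⟨x.a, x.b, x.c, x.t, h⟩⟩

/-- the embedding in `UT₃(4) : 2²` -/
def emb (x : T7) : M8 := ⟨⟨x.a, x.b, x.c, false⟩, x.t⟩

theorem emb_mul (x y : T7) : emb (x * y) = emb x * emb y := by
  obtain ⟨_, _, _, _ | _⟩ := x <;> rfl

theorem emb_inj {x y : T7} (h : emb x = emb y) : x = y := by
  obtain ⟨_, _, _, _⟩ := x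
  obtain ⟨_, _, _, _⟩ := y
  simp only [emb, M8.mk.injEq, J7.mk.injEq] at h
  simp [h]

instance : Group T7 := Group.ofLeftAxioms
  (fun x y w => emb_inj (by simp only [emb_mul, mul_assoc])) (by decide) (by decide)

/-- the embedding as a homomorphism -/
def em : T7 →* M8 := MonoidHom.mk' emb emb_mul

/-- coordinates -/
def equiv : T7 ≃ K4 × K4 × K4 × Bool where
  toFun x := (x.a, x.b, x.c, x.t)
  invFun x := ⟨x.1, x.2.1, x.2.2.1, x.2.2.2⟩

theorem card : Nat.card T7 = 128 := by rw [Nat.card_congr equiv]; simp [Syl.F4.card]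

instance : Fintype T7 := ⟨⟨(([0, 1, om, om + 1] : List K4).flatMap fun a =>
    ([0, 1, om, om + 1] : List K4).flatMap fun b => ([0, 1, om, om + 1] : List K4).flatMap fun c =>
      [(⟨a, b, c, false⟩ : T7), ⟨a, b, c, true⟩] : List T7), by decide +kernel⟩, by decide +kernel⟩

theorem isPGroup : IsPGroup 2 T7 := IsPGroup.of_card (n := 7) card

theorem card_sub (K : Subgroup T7) [DecidablePred (· ∈ K)] :
    Nat.card K = (Finset.univ.filter (· ∈ K)).card := by
  rw [Nat.card_eq_fintype_card, Fintype.card_subtype]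

end T7

open T7

/-- elements of `V` -/
def vv (a c : K4) : T7 := ⟨a, 0, c, false⟩
/-- elements of `V'` -/
def ww (b c : K4) : T7 := ⟨0, b, c, false⟩
/-- elements of `Z₀ = V ∩ V'` -/
def zz (c : K4) : T7 := ⟨0, 0, c, false⟩
/-- the central involution -/
def z0 : T7 := zz 1
/-- another involution of `Z₀` -/
def u0 : T7 := zz om
/-- a basis element of `V` -/
def a1 : T7 := vv 1 0
/-- a basis element of `V` -/
def a2 : T7 := vv om 0
/-- a basis element of `V'` -/
def b1 : T7 := ww 1 0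
/-- a basis element of `V'` -/
def b2 : T7 := ww om 0
/-- the field automorphism -/
def ph : T7 := ⟨0, 0, 0, true⟩

/-- a subgroup given by a test -/
def sub (P : T7 → Bool) (h1 : P 1 = true) (hm : ∀ x y, P x = true → P y = true → P (x * y) = true)
    (hi : ∀ x, P x = true → P x⁻¹ = true) : Subgroup T7 where
  carrier := {x | P x = true}
  one_mem' := h1
  mul_mem' := hm _ _
  inv_mem' := hi _

/-- `P = UT₃(4)` -/
def PP : Subgroup T7 := sub (fun x => !x.t) rfl (by decide +kernel) (by decide +kernel)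
/-- `V` -/
def VV : Subgroup T7 := sub (fun x => !x.t && x.b == 0) rfl (by decide +kernel) (by decide +kernel)
/-- `V'` -/
def WW : Subgroup T7 := sub (fun x => !x.t && x.a == 0) rfl (by decide +kernel) (by decide +kernel)
/-- `Z₀` -/
def ZZ : Subgroup T7 := sub (fun x => !x.t && x.a == 0 && x.b == 0) rfl (by decide +kernel) (by decide +kernel)

instance : DecidablePred (· ∈ PP) := fun _ => instDecidableEqBool _ _
instance : DecidablePred (· ∈ VV) := fun _ => instDecidableEqBool _ _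
instance : DecidablePred (· ∈ WW) := fun _ => instDecidableEqBool _ _
instance : DecidablePred (· ∈ ZZ) := fun _ => instDecidableEqBool _ _

theorem card_PP : Nat.card PP = 64 := (card_sub _).trans (by decide +kernel)
theorem card_VV : Nat.card VV = 16 := (card_sub _).trans (by decide +kernel)
theorem card_WW : Nat.card WW = 16 := (card_sub _).trans (by decide +kernel)
theorem card_ZZ : Nat.card ZZ = 4 := (card_sub _).trans (by decide +kernel)

/-- the graph automorphism: conjugation by `s` in `M8` -/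
def sw : T7 →* T7 := MonoidHom.mk' (fun x => ⟨x.b.bar, x.a.bar, (x.c + x.a * x.b).bar, x.t⟩) (by decide +kernel)

/-- the diagonal automorphism of order three of `P` centralizing `Z₀` -/
def jj (x : T7) : T7 := ⟨om * x.a, (om + 1) * x.b, x.c, x.t⟩

/-- independence modulo `z` -/
def Ind (x y w : T7) : Prop := ∀ v ∈ [x, y, w, x * y, x * w, y * w, x * y * w], v ≠ 1 ∧ v ≠ z0

instance (x y w : T7) : Decidable (Ind x y w) := inferInstanceAs (Decidable (∀ v ∈ _, _))

theorem sw_sw : ∀ x, sw (sw x) = x := by decide +kernel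
theorem sw_inj : Function.Injective sw := Function.LeftInverse.injective sw_sw
theorem sw_z : sw z0 = z0 := by decide
theorem sw_ph : sw ph = ph := by decide
theorem sw_jj : ∀ x, sw (jj x) = jj (sw x) := by decide +kernel
theorem sw_VV : ∀ x, sw x ∈ VV ↔ x ∈ WW := by decide +kernel
theorem sw_WW : ∀ x, sw x ∈ WW ↔ x ∈ VV := by decide +kernel
theorem sw_PP : ∀ x, sw x ∈ PP ↔ x ∈ PP := by decide +kernel
theorem sw_ZZ : ∀ x, sw x ∈ ZZ ↔ x ∈ ZZ := by decide +kernel
theorem em_sw : ∀ x, em (sw x) = ⟨⟨0, 0, 0, true⟩, false⟩ * em x * (⟨⟨0, 0, 0, true⟩, false⟩ : M8)⁻¹ := by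
  decide +kernel
theorem zc : ∀ x, x * z0 = z0 * x := by decide +kernel
theorem zsq : z0 * z0 = 1 := by decide
theorem zne : z0 ≠ 1 := by decide
theorem VV_sq : ∀ v ∈ VV, v * v = 1 := by decide +kernel
theorem VV_comm : ∀ v ∈ VV, ∀ w ∈ VV, v * w = w * v := by decide +kernel
theorem VV_conj : ∀ x, ∀ v ∈ VV, x * v * x⁻¹ ∈ VV := by decide +kernel
theorem WW_conj : ∀ x, ∀ v ∈ WW, x * v * x⁻¹ ∈ WW := by decide +kernel
theorem ZZ_conj : ∀ x, ∀ v ∈ ZZ, x * v * x⁻¹ ∈ ZZ := by decide +kernel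
theorem PP_conj : ∀ x, ∀ v ∈ PP, x * v * x⁻¹ ∈ PP := by decide +kernel
theorem ZZ_cen : ∀ c ∈ ZZ, ∀ x ∈ PP, x * c = c * x := by decide +kernel
theorem ZZ_iff : ∀ x, x ∈ ZZ ↔ x ∈ VV ∧ x ∈ WW := by decide +kernel
theorem VV_le : VV ≤ PP := fun x => by revert x; decide +kernel
theorem WW_le : WW ≤ PP := fun x => by revert x; decide +kernel
theorem ZZ_le : ZZ ≤ VV := fun x => by revert x; decide +kernel
theorem PP_eq : ∀ x ∈ PP, ∃ w ∈ WW, ∃ v ∈ VV, x = w * v := fun x hx => ⟨ww x.b 0, rfl, vv x.a x.c, rfl, by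
  revert x; decide +kernel⟩
theorem jj_mul : ∀ x ∈ PP, ∀ y ∈ PP, jj (x * y) = jj x * jj y := by decide +kernel
theorem jj_VV : ∀ x, jj x ∈ VV ↔ x ∈ VV := by decide +kernel
theorem jj_ZZ : ∀ x ∈ ZZ, jj x = x := by decide +kernel

instance : VV.Normal := ⟨fun v h x => VV_conj x v h⟩
instance : WW.Normal := ⟨fun v h x => WW_conj x v h⟩
instance : ZZ.Normal := ⟨fun v h x => ZZ_conj x v h⟩
instance : PP.Normal := ⟨fun v h x => PP_conj x v h⟩

theorem comp_sw_sw {G : Type*} [Group G] (ψ : T7 →* G) : (ψ.comp sw).comp sw = ψ :=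
  MonoidHom.ext fun x => congrArg ψ (sw_sw x)

theorem map_sw {G : Type*} [Group G] (ψ : T7 →* G) {A B : Subgroup T7} (h : ∀ x, sw x ∈ A ↔ x ∈ B) :
    A.map (ψ.comp sw) = B.map ψ := by
  ext g
  exact ⟨fun ⟨x, hx, e⟩ => ⟨sw x, (h _).1 (by rwa [sw_sw]), e⟩,
    fun ⟨x, hx, e⟩ => ⟨sw x, (h _).2 hx, (congrArg ψ (sw_sw x)).trans e⟩⟩

theorem range_sw {G : Type*} [Group G] (ψ : T7 →* G) : (ψ.comp sw).range = ψ.range := by
  ext g
  exact ⟨fun ⟨x, e⟩ => ⟨sw x, e⟩, fun ⟨x, e⟩ => ⟨sw x, (congrArg ψ (sw_sw x)).trans e⟩⟩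

/-- homomorphisms from `T7` -/
theorem exists_hom {G : Type*} [Group G] {E E' Z : K4 → G} (h : Co E E' Z) {s : G} (ss : s * s = 1)
    (h1 : ∀ a, s * E a * s⁻¹ = E a.bar) (h2 : ∀ a, s * E' a * s⁻¹ = E' a.bar) :
    ∃ χ : T7 →* G, ∀ x, χ x = E' x.b * E x.a * Z x.c * cond x.t s 1 := by
  refine ⟨MonoidHom.mk' (fun x => L8.ψ E E' Z (emb x).x * cond x.t s 1) fun x y => ?_, fun _ => rfl⟩
  have e : L8.ψ E E' Z (L8.fr x.t (emb y).x) = cond x.t s 1 * L8.ψ E E' Z (emb y).x * (cond x.t s 1)⁻¹ := by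
    cases x.t
    · simp [L8.fr]
    · exact (h.conj_fr h1 h2 _).symm
  have e' : (emb (x * y)).x = J7.m0 (emb x).x (L8.fr x.t (emb y).x) := by
    obtain ⟨_, _, _, _ | _⟩ := x <;> rfl
  rw [e', h.ψ_m0, e, show (x * y).t = (x.t ^^ y.t) from rfl, bp_xor ss]; group

end CL.NM
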